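import Groth.Agent.Lib.DeformIso.Basic
import Mathlib.RingTheory.AdicCompletion.LocalRing
import Mathlib.AlgebraicGeometry.Morphisms.ClosedImmersion

/-!
# Local rings after completion of the base, modulo powers of the maximal ideal
-/

set_option autoImplicit false
set_option linter.all false
set_option backward.isDefEq.respectTransparency false

universe u

open CategoryTheory Limits AlgebraicGeometry IsLocalRing

noncomputable section

namespace GrothLib.CplQuot

variable {X : Scheme.{u}} {R : Type u} [CommRing R]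

/-- The structure map into a local ring. -/
def toStalk (f : X ⟶ Spec (CommRingCat.of R)) (p : X) : R →+* X.presheaf.stalk p :=
  ((Scheme.ΓSpecIso (CommRingCat.of R)).inv ≫
    (Spec (CommRingCat.of R)).presheaf.germ ⊤ (f p) trivial ≫ f.stalkMap p).hom

theorem isUnit_toStalk_iff (f : X ⟶ Spec (CommRingCat.of R)) (p : X) (a : R) :
    IsUnit (toStalk f p a) ↔ a ∉ (f p).asIdeal := by
  haveI : IsLocalHom (f.stalkMap p).hom := inferInstance
  show IsUnit ((f.stalkMap p).hom (((Scheme.ΓSpecIso (CommRingCat.of R)).inv ≫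
    (Spec (CommRingCat.of R)).presheaf.germ ⊤ (f p) trivial).hom a)) ↔ _
  rw [isUnit_map_iff]
  show IsUnit ((Spec (CommRingCat.of R)).presheaf.germ ⊤ (f p) trivial
    ((Scheme.ΓSpecIso (CommRingCat.of R)).inv.hom a)) ↔ _
  rw [← (Spec (CommRingCat.of R)).mem_basicOpen _ _
      (show f p ∈ (⊤ : (Spec (CommRingCat.of R)).Opens) from trivial),
    basicOpen_eq_of_affine', PrimeSpectrum.mem_basicOpen,
    ← RingHom.comp_apply, ← CommRingCat.hom_comp, Iso.inv_hom_id]
  rfl

theorem ker_stalkMap_specMap {T : Type u} [CommRing T] (τ : R →+* T) (hτ : Function.Surjective τ)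
    (f : X ⟶ Spec (CommRingCat.of R)) {X₀ : Scheme.{u}} {i : X₀ ⟶ X}
    {f₀ : X₀ ⟶ Spec (CommRingCat.of T)}
    (hc : IsPullback i f₀ f (Spec.map (CommRingCat.ofHom τ))) (x : X₀) :
    RingHom.ker (i.stalkMap x).hom = (RingHom.ker τ).map (toStalk f (i x)) := by
  haveI : IsClosedImmersion (Spec.map (CommRingCat.ofHom τ)) :=
    IsClosedImmersion.spec_of_surjective _ hτ
  rw [GrothLib.DeformIso.ker_stalkMap_of_isPullback hc x ⟨⊤, isAffineOpen_top _⟩ trivial]
  have hk : (Spec.map (CommRingCat.ofHom τ)).ker.ideal ⟨⊤, isAffineOpen_top _⟩ =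
      (RingHom.ker τ).map (Scheme.ΓSpecIso (CommRingCat.of R)).inv.hom := by
    set e := Scheme.ΓSpecIso (CommRingCat.of R)
    have key : ∀ c, τ (e.hom.hom c) = (Scheme.ΓSpecIso (CommRingCat.of T)).hom.hom
        ((Spec.map (CommRingCat.ofHom τ)).appTop.hom c) := fun c =>
      (congrArg (fun φ => CommRingCat.Hom.hom φ c)
        (Scheme.ΓSpecIso_naturality (CommRingCat.ofHom τ))).symm
    rw [Scheme.Hom.ker_apply]
    refine le_antisymm (fun c hc => ?_) ?_
    · have h0 : τ (e.hom.hom c) = 0 := by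
        rw [key, show (Spec.map (CommRingCat.ofHom τ)).appTop.hom c = 0 from hc, map_zero]
      have := Ideal.mem_map_of_mem e.inv.hom (show e.hom.hom c ∈ RingHom.ker τ from h0)
      rwa [← RingHom.comp_apply, ← CommRingCat.hom_comp, e.hom_inv_id] at this
    · rw [Ideal.map_le_iff_le_comap]
      intro r hr
      refine (ConcreteCategory.bijective_of_isIso (Scheme.ΓSpecIso (CommRingCat.of T)).hom).1 ?_
      rw [map_zero]
      refine (key _).symm.trans ?_
      rw [show e.hom.hom (e.inv.hom r) = r from congr($(e.inv_hom_id).hom r)]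
      exact hr
  rw [hk, Ideal.map_map, Ideal.map_map]
  rfl

theorem toStalk_comp {S : Type u} [CommRing S] (φ : R →+* S) {Y : Scheme.{u}}
    (f : X ⟶ Spec (CommRingCat.of R)) (p : Y ⟶ X) (q : Y ⟶ Spec (CommRingCat.of S))
    (h : p ≫ f = q ≫ Spec.map (CommRingCat.ofHom φ)) (y : Y) :
    (toStalk q y).comp φ = (p.stalkMap y).hom.comp (toStalk f (p y)) := by
  have hq := q.germ_stalkMap ⊤ y trivial
  have hf := f.germ_stalkMap ⊤ (p y) trivial
  have key : (CommRingCat.ofHom φ ≫ (Scheme.ΓSpecIso (CommRingCat.of S)).inv) ≫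
      (Spec (CommRingCat.of S)).presheaf.germ ⊤ (q y) trivial ≫ q.stalkMap y =
    (Scheme.ΓSpecIso (CommRingCat.of R)).inv ≫
      ((Spec (CommRingCat.of R)).presheaf.germ ⊤ (f (p y)) trivial ≫ f.stalkMap (p y)) ≫
        p.stalkMap y := by
    rw [hq, hf, Scheme.ΓSpecIso_inv_naturality (CommRingCat.ofHom φ), Category.assoc]
    congr 1
    show (Spec.map (CommRingCat.ofHom φ)).appTop ≫ q.appTop ≫ Y.presheaf.germ ⊤ y trivial =
      (f.appTop ≫ X.presheaf.germ ⊤ (p y) trivial) ≫ p.stalkMap y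
    rw [Category.assoc, p.germ_stalkMap ⊤ y trivial]
    show _ = f.appTop ≫ p.appTop ≫ Y.presheaf.germ ⊤ y trivial
    have h2 := congrArg Scheme.Hom.appTop h
    simp only [Scheme.Hom.comp_appTop] at h2
    rw [reassoc_of% h2]
  exact congrArg CommRingCat.Hom.hom key

theorem bijective_quotientMap_pow' [IsLocalRing R] {S : Type u} [CommRing S] (σ : R →+* S) (n : ℕ)
    (hn : 1 ≤ n)
    (hτ : Function.Surjective ((Ideal.Quotient.mk ((maximalIdeal R ^ n).map σ)).comp σ))
    (hker : RingHom.ker ((Ideal.Quotient.mk ((maximalIdeal R ^ n).map σ)).comp σ) ≤ maximalIdeal R ^ n)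
    (f : X ⟶ Spec (CommRingCat.of R))
    (q : ↥(pullback f (Spec.map (CommRingCat.ofHom σ))))
    (hq : f (pullback.fst f (Spec.map (CommRingCat.ofHom σ)) q) = closedPoint R)
    (h : maximalIdeal (X.presheaf.stalk (pullback.fst f (Spec.map (CommRingCat.ofHom σ)) q)) ^ n ≤
      (maximalIdeal ((pullback f (Spec.map (CommRingCat.ofHom σ))).presheaf.stalk q) ^ n).comap
        ((pullback.fst f (Spec.map (CommRingCat.ofHom σ))).stalkMap q).hom) :
    Function.Bijective (Ideal.quotientMap
      (maximalIdeal ((pullback f (Spec.map (CommRingCat.ofHom σ))).presheaf.stalk q) ^ n)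
      ((pullback.fst f (Spec.map (CommRingCat.ofHom σ))).stalkMap q).hom h) := by
  let π₁ := pullback.fst f (Spec.map (CommRingCat.ofHom σ))
  let π₂ := pullback.snd f (Spec.map (CommRingCat.ofHom σ))
  let J : Ideal S := (maximalIdeal R ^ n).map σ
  let τ : R →+* S ⧸ J := (Ideal.Quotient.mk J).comp σ
  let iS : Spec (CommRingCat.of (S ⧸ J)) ⟶ Spec (CommRingCat.of S) :=
    Spec.map (CommRingCat.ofHom (Ideal.Quotient.mk J))
  have hmem : (π₂ q).asIdeal ≥ J := by
    rw [ge_iff_le, Ideal.map_le_iff_le_comap]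
    refine (Ideal.pow_le_self (by omega)).trans (le_of_eq ?_)
    have h1 : f (π₁ q) = Spec.map (CommRingCat.ofHom σ) (π₂ q) := by
      rw [← Scheme.Hom.comp_apply, pullback.condition, Scheme.Hom.comp_apply]
    rw [show f (π₁ q) = closedPoint R from hq] at h1
    exact congrArg PrimeSpectrum.asIdeal h1
  obtain ⟨w, hw⟩ : π₂ q ∈ Set.range iS := by
    show π₂ q ∈ Set.range (PrimeSpectrum.comap (Ideal.Quotient.mk J))
    rw [range_comap_of_surjective _ _ Ideal.Quotient.mk_surjective, Ideal.mk_ker]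
    exact hmem
  obtain ⟨q₀, hq₀, -⟩ := Scheme.Pullback.exists_preimage_pullback (f := π₂) (g := iS) q w hw.symm
  subst hq₀
  set iY := pullback.fst π₂ iS with hiY
  have hP := IsPullback.of_hasPullback π₂ iS
  have hP2 : IsPullback (iY ≫ π₁) (pullback.snd π₂ iS) f (Spec.map (CommRingCat.ofHom τ)) := by
    have := hP.paste_horiz (IsPullback.of_hasPullback f (Spec.map (CommRingCat.ofHom σ)))
    rwa [← Spec.map_comp] at this
  haveI : IsClosedImmersion (Spec.map (CommRingCat.ofHom τ)) :=
    IsClosedImmersion.spec_of_surjective _ hτ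
  haveI : IsClosedImmersion (iY ≫ π₁) :=
    MorphismProperty.of_isPullback (P := @IsClosedImmersion) hP2.flip inferInstance
  set φ := (π₁.stalkMap (iY q₀)).hom with hφ
  haveI : IsLocalHom φ := (inferInstance : IsLocalHom (π₁.stalkMap (iY q₀)).hom)
  set χ := (iY.stalkMap q₀).hom with hχ
  have hψ : ((iY ≫ π₁).stalkMap q₀).hom = χ.comp φ := by
    rw [Scheme.Hom.stalkMap_comp]; rfl
  have hsurj : Function.Surjective (χ.comp φ) := hψ ▸ (iY ≫ π₁).stalkMap_surjective q₀
  set mp := maximalIdeal (X.presheaf.stalk (π₁ (iY q₀))) with hmp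
  have hm : (maximalIdeal R).map (toStalk f (π₁ (iY q₀))) ≤ mp := by
    rw [Ideal.map_le_iff_le_comap]
    intro a ha hu
    exact (isUnit_toStalk_iff f _ a).1 hu (by
      rw [show f (π₁ (iY q₀)) = closedPoint R from hq]; exact ha)
  have hkerψ : RingHom.ker (χ.comp φ) ≤ mp ^ n := by
    rw [← hψ, ker_stalkMap_specMap τ hτ f hP2 q₀]
    refine le_trans (Ideal.map_mono hker) ?_
    rw [Ideal.map_pow]
    exact Ideal.pow_right_mono hm n
  have hkerχ : RingHom.ker χ ≤ (mp ^ n).map φ := by
    rw [hχ, ker_stalkMap_specMap (Ideal.Quotient.mk J) Ideal.Quotient.mk_surjective π₂ hP q₀,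
      Ideal.mk_ker, Ideal.map_map, toStalk_comp σ f π₁ π₂ pullback.condition (iY q₀),
      ← Ideal.map_map]
    refine Ideal.map_mono ?_
    rw [Ideal.map_pow]
    exact Ideal.pow_right_mono hm n
  have hlift : ∀ b, ∃ a, b - φ a ∈ (mp ^ n).map φ := fun b => by
    obtain ⟨a, ha⟩ := hsurj (χ b)
    exact ⟨a, hkerχ (by rw [RingHom.mem_ker, map_sub, sub_eq_zero]; exact ha.symm)⟩
  have hmax : maximalIdeal ((pullback f (Spec.map (CommRingCat.ofHom σ))).presheaf.stalk (iY q₀)) =
      mp.map φ := by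
    refine le_antisymm (fun b hb => ?_) ?_
    · obtain ⟨a, ha⟩ := hlift b
      have hle : (mp ^ n).map φ ≤ mp.map φ := Ideal.map_mono (Ideal.pow_le_self (by omega))
      have hle' : mp.map φ ≤ maximalIdeal _ := ((IsLocalRing.local_hom_TFAE φ).out 0 2).1 ‹IsLocalHom φ›
      have ham : a ∈ mp := by
        intro hu
        have h2 := sub_mem hb (hle' (hle ha))
        rw [sub_sub_cancel] at h2
        exact h2 (hu.map φ)
      simpa using add_mem (hle ha) (Ideal.mem_map_of_mem φ ham)
    · exact ((IsLocalRing.local_hom_TFAE φ).out 0 2).1 ‹IsLocalHom φ›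
  constructor
  · rw [injective_iff_map_eq_zero]
    intro z hz
    obtain ⟨a, rfl⟩ := Ideal.Quotient.mk_surjective z
    rw [Ideal.quotientMap_mk, Ideal.Quotient.eq_zero_iff_mem] at hz
    change φ a ∈ maximalIdeal _ ^ n at hz
    rw [hmax, ← Ideal.map_pow] at hz
    have h1 := Ideal.mem_map_of_mem χ hz
    rw [Ideal.map_map] at h1
    obtain ⟨a', ha', he⟩ := (Ideal.mem_map_iff_of_surjective _ hsurj).1 h1
    rw [Ideal.Quotient.eq_zero_iff_mem]
    have h2 : a - a' ∈ mp ^ n := hkerψ (by
      rw [RingHom.mem_ker, map_sub, sub_eq_zero]; exact he.symm)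
    simpa using add_mem h2 ha'
  · intro z
    obtain ⟨b, rfl⟩ := Ideal.Quotient.mk_surjective z
    obtain ⟨a, ha⟩ := hlift b
    refine ⟨Ideal.Quotient.mk _ a, ?_⟩
    rw [Ideal.quotientMap_mk, Ideal.Quotient.eq]
    change φ a - b ∈ maximalIdeal _ ^ n
    rw [hmax, ← Ideal.map_pow, ← neg_sub]
    exact neg_mem ha

theorem bijective_quotientMap_pow [IsLocalRing R] (hfg : (maximalIdeal R).FG)
    (f : X ⟶ Spec (CommRingCat.of R))
    (q : ↥(pullback f (Spec.map (CommRingCat.ofHom
      (algebraMap R (AdicCompletion (maximalIdeal R) R))))))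
    (hq : f ((pullback.fst f _ : _ ⟶ X) q) = closedPoint R) (n : ℕ) (hn : 1 ≤ n)
    (h : maximalIdeal (X.presheaf.stalk ((pullback.fst f _ : _ ⟶ X) q)) ^ n ≤
      (maximalIdeal ((pullback f _).presheaf.stalk q) ^ n).comap
        ((pullback.fst f _ : _ ⟶ X).stalkMap q).hom) :
    Function.Bijective (Ideal.quotientMap (maximalIdeal ((pullback f _).presheaf.stalk q) ^ n)
      ((pullback.fst f _ : _ ⟶ X).stalkMap q).hom h) := by
  have hJ : ((maximalIdeal R ^ n).map (algebraMap R (AdicCompletion (maximalIdeal R) R))).restrictScalars R =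
      maximalIdeal R ^ n • (⊤ : Submodule R (AdicCompletion (maximalIdeal R) R)) :=
    (Ideal.smul_top_eq_map _).symm
  refine bijective_quotientMap_pow' _ n hn (fun z => ?_) (fun a ha => ?_) f q hq h
  · obtain ⟨z, rfl⟩ := Ideal.Quotient.mk_surjective z
    obtain ⟨a, ha⟩ := Submodule.mkQ_surjective _ (AdicCompletion.eval (maximalIdeal R) R n z)
    refine ⟨a, (Ideal.Quotient.eq).2 ?_⟩
    have h0 : algebraMap R (AdicCompletion (maximalIdeal R) R) a - z ∈
        LinearMap.ker (AdicCompletion.eval (maximalIdeal R) R n) := by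
      rw [LinearMap.mem_ker, map_sub, ← ha, sub_eq_zero, AdicCompletion.algebraMap_apply]
      rfl
    rw [← AdicCompletion.pow_smul_top_eq_ker_eval hfg, ← hJ] at h0
    exact h0
  · have h0 : algebraMap R (AdicCompletion (maximalIdeal R) R) a ∈
        ((maximalIdeal R ^ n).map (algebraMap R (AdicCompletion (maximalIdeal R) R))).restrictScalars R :=
      Ideal.Quotient.eq_zero_iff_mem.1 ha
    rw [hJ, AdicCompletion.pow_smul_top_eq_ker_eval hfg, LinearMap.mem_ker,
      AdicCompletion.algebraMap_apply] at h0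
    have h1 : Submodule.Quotient.mk (p := maximalIdeal R ^ n • (⊤ : Submodule R R)) a = 0 := h0
    rw [Submodule.Quotient.mk_eq_zero] at h1
    simpa using h1

end GrothLib.CplQuot
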